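import Groth.Agent.Lib.ProjPure13.EtaleAss
import Groth.Agent.Lib.RGProj13.FreeDescent
import Groth.Agent.Lib.RG6.Specialize
import Groth.Agent.Lib.RG6.Impure.Basic
import Groth.Agent.S1217

/-!
Purity from an étale cover of the relative associated points.
-/

set_option autoImplicit false
set_option linter.style.haveILetI false
set_option linter.unusedSectionVars false
universe u

open TensorProduct

namespace GrothLib.ProjPure13

attribute [local instance] Algebra.TensorProduct.rightAlgebra

variable {A B : Type u} [CommRing A] [CommRing B] [Algebra A B] [Algebra.FiniteType A B]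
  {N : Type u} [AddCommGroup N] [Module B N] [Module A N] [IsScalarTower A B N] [Module.Finite B N]
  {p : Ideal A} [p.IsPrime]
  {A' : Type u} [CommRing A'] [Algebra A A'] {p' : Ideal A'} [p'.IsPrime]
  {B' : Type u} [CommRing B'] [Algebra B B'] [Algebra A' B'] [Algebra A B'] [IsScalarTower A B B'] [IsScalarTower A A' B']
  [Algebra.Etale B B']
  {N' : Type u} [AddCommGroup N'] [Module B' N'] [Module B N'] [IsScalarTower B B' N'] [Module A' N'] [IsScalarTower A' B' N']
  {BA NA : Type u} [CommRing BA] [Algebra B BA] [Algebra A' BA] [Algebra A BA] [IsScalarTower A B BA]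
  [IsScalarTower A A' BA] [hpo : Algebra.IsPushout A B A' BA] [Algebra BA B'] [IsScalarTower B BA B']
  [IsScalarTower A' BA B'] [AddCommGroup NA] [Module BA NA] [Module B NA] [IsScalarTower B BA NA] [Module A' NA]
  [IsScalarTower A' BA NA]

include hpo

/-- The cover is étale over the base change. -/
theorem etale_cover (het : FlatCA.IsEtaleNhd A A' p p') : Algebra.Etale BA B' := by
  haveI : Algebra.Etale A A' := het.1
  haveI : Algebra.Etale B BA := Algebra.Etale.of_equiv (Algebra.IsPushout.equiv A B A' BA)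
  exact Algebra.Etale.of_restrictScalars B BA B'

/-- Associated points of the fibres of the base change are covered, for a pure module. -/
theorem covered_of_pure (hflat : ∀ (q : Ideal B) [q.IsPrime], q.LiesOver p → FlatCA.FlatAt A q N)
    (het : FlatCA.IsEtaleNhd A A' p p')
    (hcov : ∀ (q : Ideal B) [q.IsPrime], q.LiesOver p →
      FlatCA.fiberIdeal p q ∈ associatedPrimes (p.Fiber B) (FlatCA.fiberMod p B N) →
      ∃ q' : Ideal B', q'.IsPrime ∧ q'.comap (algebraMap B B') = q ∧ q'.comap (algebraMap A' B') = p')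
    (fA : N →ₗ[B] NA) (hfA : IsBaseChange BA fA) (h : FlatCA.IsPureAlong A B N p)
    (t' : Ideal A') [t'.IsPrime] (htle : t' ≤ p') (Q : Ideal BA) [Q.IsPrime] (hQt : Q.LiesOver t')
    (hass : FlatCA.fiberIdeal t' Q ∈ associatedPrimes (t'.Fiber BA) (FlatCA.fiberMod t' BA NA)) :
    ∃ Q' : Ideal B', Q'.IsPrime ∧ Q'.comap (algebraMap BA B') = Q := by
  haveI : Algebra.Etale A A' := het.1
  haveI : Algebra.Etale B BA := Algebra.Etale.of_equiv (Algebra.IsPushout.equiv A B A' BA)
  haveI : Algebra.Etale BA B' := etale_cover (B := B) het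
  haveI : Algebra.FiniteType A' BA := GrothLib.RG6.Impure.finiteType_baseChange hpo
  haveI : Module.Finite BA NA := Module.Finite.equiv hfA.equiv
  obtain ⟨ho, -⟩ := het.2
  haveI := ho
  haveI := hQt
  -- purity gives a specialization over `p'`
  obtain ⟨P', hP', hQP, hPp⟩ : ∃ P' : Ideal BA, P'.IsPrime ∧ Q ≤ P' ∧ P'.LiesOver p' := by
    by_contra! hne
    exact h A' BA NA fA t' p' Q het ⟨hpo, hfA, htle, ho, hQt, hass, fun P' hP' hle hover => hne P' hP' hle hover⟩
  haveI := hP'
  haveI := hPp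
  have hqp : (P'.comap (algebraMap B BA)).LiesOver p := ⟨by
    rw [Ideal.under, Ideal.comap_comap, ← IsScalarTower.algebraMap_eq A B BA, IsScalarTower.algebraMap_eq A A' BA,
      ← Ideal.comap_comap]
    exact ho.over.trans (congrArg (Ideal.comap (algebraMap A A')) hPp.over)⟩
  letI : Module A NA := Module.compHom NA (algebraMap A A')
  haveI : IsScalarTower A A' NA := IsScalarTower.of_algebraMap_smul fun _ _ => rfl
  haveI : IsScalarTower A BA NA := IsScalarTower.of_algebraMap_smul fun a x => by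
    rw [IsScalarTower.algebraMap_apply A A' BA, algebraMap_smul]
    rfl
  have hflatP : FlatCA.FlatAt A' P' NA :=
    (GrothLib.RG6.Dev.flatAt_etale (R := A) (R' := A') (S := B) (S' := BA) fA hfA P').1 (hflat _ hqp)
  -- an associated point over `p'` in between
  obtain ⟨q₀, hq₀, hQq, -, hq₀p, hass₀⟩ :=
    GrothLib.RG6.exists_assoc_specialization NA p' t' Q hass P' hQP hflatP
  haveI := hq₀p
  haveI : Algebra.IsPushout A A' B BA := hpo.symm
  obtain ⟨hl, hass₁⟩ := (GrothLib.RG6.Impure.ass_both hfA p p').1 q₀ hq₀p hass₀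
  obtain ⟨q'', hq'', hq''B, hq''A⟩ := hcov _ hl hass₁
  haveI := hq''
  let P₂ := q''.comap (algebraMap BA B')
  have hres : ∀ a : A', ∃ r t : A, t ∉ p ∧ algebraMap A A' t * a - algebraMap A A' r ∈ p' := fun a => by
    obtain ⟨r, t, ht, hm⟩ := GrothLib.RGProj13.exists_frac_residue het (algebraMap A' (Localization.AtPrime p') a)
    refine ⟨r, t, ht, ?_⟩
    rw [← IsLocalization.AtPrime.to_map_mem_maximal_iff (Localization.AtPrime p') p', map_sub, map_mul,
      ← IsScalarTower.algebraMap_apply, ← IsScalarTower.algebraMap_apply]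
    exact hm
  have hP₂p : P₂.LiesOver p' := ⟨by
    show p' = (q''.comap (algebraMap BA B')).comap (algebraMap A' BA)
    rw [Ideal.comap_comap, ← IsScalarTower.algebraMap_eq A' BA B']
    exact hq''A.symm⟩
  have hP₂q : P₂.LiesOver (q₀.comap (algebraMap B BA)) := ⟨by
    show q₀.comap (algebraMap B BA) = (q''.comap (algebraMap BA B')).comap (algebraMap B BA)
    rw [Ideal.comap_comap, ← IsScalarTower.algebraMap_eq B BA B']
    exact hq''B.symm⟩
  have heq : q₀ = P₂ := GrothLib.RGProj13.eq_of_residue_bijective ho hres (q₀.comap (algebraMap B BA)) q₀ P₂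
    ⟨rfl⟩ hP₂q hq₀p hP₂p
  -- going down
  haveI : q''.LiesOver q₀ := ⟨heq⟩
  obtain ⟨Q', -, hQ', hQ'Q⟩ := Ideal.exists_ideal_le_liesOver_of_le (R := BA) (S := B') (p := Q) (q := q₀) q'' hQq
  exact ⟨Q', hQ', hQ'Q.over.symm⟩

set_option maxHeartbeats 1600000 in
/-- A module is pure when the associated points of the fibres of the base change are covered by a pure piece. -/
theorem pure_of_covered (het : FlatCA.IsEtaleNhd A A' p p') (f : N →ₗ[B] N') (hf : IsBaseChange B' f)
    (hpure : FlatCA.IsPureAlong A' B' N' p') (fA : N →ₗ[B] NA) (hfA : IsBaseChange BA fA)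
    (hc : ∀ (t' : Ideal A') [t'.IsPrime], t' ≤ p' → ∀ (Q : Ideal BA) [Q.IsPrime], Q.LiesOver t' →
      FlatCA.fiberIdeal t' Q ∈ associatedPrimes (t'.Fiber BA) (FlatCA.fiberMod t' BA NA) →
      ∃ Q' : Ideal B', Q'.IsPrime ∧ Q'.comap (algebraMap BA B') = Q) :
    FlatCA.IsPureAlong A B N p := by
  haveI : Algebra.Etale A A' := het.1
  haveI : Algebra.Etale BA B' := etale_cover (B := B) het
  haveI : Algebra.FiniteType A' BA := GrothLib.RG6.Impure.finiteType_baseChange hpo
  obtain ⟨ho, -⟩ := het.2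
  haveI := ho
  haveI : Module.Flat A (Localization.AtPrime p') := Module.Flat.trans A A' _
  refine (Groth.Agent.S1217.result (A := A) (B := B) N p A' BA NA fA hfA p').1 ?_
  intro A'' B'' N'' _ _ _ _ _ _ _ _ _ _ _ _ _ _ g t'' t _ _ P _ hnhd himp
  obtain ⟨hpo₂, hg, hle, hto, hPt, hassP, hmiss⟩ := himp
  haveI := hpo₂
  haveI := hto
  haveI := hPt
  haveI : Algebra.IsPushout A' A'' BA B'' := hpo₂.symm
  haveI : Algebra.FiniteType A'' B'' := GrothLib.RG6.Impure.finiteType_baseChange hpo₂
  let s := t''.comap (algebraMap A' A'')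
  haveI : t''.LiesOver s := ⟨rfl⟩
  have hsp : s ≤ p' := (Ideal.comap_mono hle).trans_eq hto.over.symm
  obtain ⟨hQs, hassQ⟩ := (GrothLib.RG6.Impure.ass_both hg s t'').1 P hPt hassP
  obtain ⟨Q', hQ', hQ'Q⟩ := hc s hsp (P.comap (algebraMap BA B'')) hQs hassQ
  haveI := hQ'
  let C := B'' ⊗[BA] B'
  haveI : IsScalarTower A' B' C := IsScalarTower.of_algebraMap_eq fun x => by
    show algebraMap A' B'' x ⊗ₜ[BA] (1 : B') = (1 : B'') ⊗ₜ[BA] algebraMap A' B' x
    rw [IsScalarTower.algebraMap_apply A' BA B'', IsScalarTower.algebraMap_apply A' BA B',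
      Algebra.algebraMap_eq_smul_one (A := B''), Algebra.algebraMap_eq_smul_one (A := B'), TensorProduct.smul_tmul]
  obtain ⟨M, hM, hMP⟩ := exists_prime_tensor (R := BA) P Q' hQ'Q.symm
  haveI := hM
  haveI hMP' : M.LiesOver P := ⟨hMP.symm⟩
  haveI : M.LiesOver t'' := Ideal.LiesOver.trans M P t''
  haveI : Algebra.IsPushout A' BA A'' B'' := hpo₂
  have hpo₃ : Algebra.IsPushout A' B' A'' C := (Algebra.IsPushout.comp_iff A' BA A'' B'').2 inferInstance
  -- modules
  letI : Module BA N' := Module.compHom N' (algebraMap BA B')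
  haveI : IsScalarTower BA B' N' := IsScalarTower.of_algebraMap_smul fun _ _ => rfl
  haveI : IsScalarTower B BA N' := IsScalarTower.of_algebraMap_smul fun b x => by
    show algebraMap BA B' (algebraMap B BA b) • x = b • x
    rw [← IsScalarTower.algebraMap_apply B BA B', algebraMap_smul]
  let ψ : NA →ₗ[BA] N' := hfA.lift f
  have hψ : IsBaseChange B' ψ := IsBaseChange.of_comp hfA (by rw [IsBaseChange.lift_comp]; exact hf)
  let NC := C ⊗[B'] N'
  let φ' : N' →ₗ[B'] NC := TensorProduct.mk B' C N' 1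
  have hφ' : IsBaseChange C φ' := TensorProduct.isBaseChange B' N' C
  have hcomp : IsBaseChange C ((φ'.restrictScalars BA) ∘ₗ ψ) := hψ.comp hφ'
  let g' : N'' →ₗ[B''] NC := hg.lift ((φ'.restrictScalars BA) ∘ₗ ψ)
  have hg' : IsBaseChange C g' := IsBaseChange.of_comp hg (by rw [IsBaseChange.lift_comp]; exact hcomp)
  have hassM : FlatCA.fiberIdeal t'' M ∈ associatedPrimes (t''.Fiber C) (FlatCA.fiberMod t'' C NC) :=
    ass_etale (A := A'') (B := B'') (B' := C) g' hg' t'' P hassP M
  refine hpure A'' C NC φ' t'' t M hnhd ⟨hpo₃, hφ', hle, hto, inferInstance, hassM, fun P' hP' hle' hover => ?_⟩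
  refine hmiss (P'.comap (algebraMap B'' C)) ?_ ⟨?_⟩
  · exact hMP.symm.le.trans (Ideal.comap_mono hle')
  · rw [Ideal.under, Ideal.comap_comap, ← IsScalarTower.algebraMap_eq A'' B'' C]
    exact hover.over

end GrothLib.ProjPure13
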