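import Groth.Agent.Lib.ProjPure13.Open
import Groth.Agent.Lib.WeakAssFib.Fibre

/-!
Associated points of the fibres inside a quasi-compact open: spreading from the generisations of a prime.
-/

set_option autoImplicit false
set_option linter.style.haveILetI false
set_option linter.unusedSectionVars false
universe u

open TensorProduct FlatCA

namespace GrothLib.ProjPure13

variable {A B N : Type u} [CommRing A] [CommRing B] [Algebra A B] [AddCommGroup N] [Module B N] [Module A N]
  [IsScalarTower A B N]

/-- The associated points of the fibre over `t` lie in a set. -/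
def AssIn (A : Type u) {B : Type u} [CommRing A] [CommRing B] [Algebra A B] (N : Type u) [AddCommGroup N] [Module B N]
    [Module A N] [IsScalarTower A B N] (W : Set (PrimeSpectrum B)) (t : Ideal A) [t.IsPrime] : Prop :=
  ∀ (Q : Ideal B) (hQ : Q.IsPrime), Q.LiesOver t →
    FlatCA.fiberIdeal t Q ∈ associatedPrimes (t.Fiber B) (FlatCA.fiberMod t B N) → (⟨Q, hQ⟩ : PrimeSpectrum B) ∈ W

/-- Multiplication by finitely many elements. -/
noncomputable def mulMap (N : Type u) [AddCommGroup N] [Module B N] {k : ℕ} (j : Fin k → B) : N →ₗ[B] (Fin k → N) :=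
  LinearMap.pi fun i => LinearMap.lsmul B N (j i)

theorem mulMap_tmul_eq_zero_iff {k : ℕ} (j : Fin k → B) (K : Type u) [AddCommGroup K] [Module A K] (z : N ⊗[A] K) :
    (mulMap N j |>.restrictScalars A).rTensor K z = 0 ↔ ∀ i, j i • z = 0 := by
  have key : ∀ z : N ⊗[A] K, TensorProduct.piLeft (R := A) (M := fun _ : Fin k => N) (N := K)
      ((mulMap N j |>.restrictScalars A).rTensor K z) = fun i => j i • z := fun z => by
    induction z using TensorProduct.induction_on with
    | zero =>
      funext i
      simp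
    | add u v hu hv =>
      rw [map_add, map_add, hu, hv]
      funext i
      simp [smul_add]
    | tmul n c =>
      funext i
      simp [mulMap, TensorProduct.smul_tmul']
  constructor
  · intro h i
    have := congrFun (key z) i
    rw [h, map_zero] at this
    exact this.symm
  · intro h
    refine (TensorProduct.piLeft (R := A) (M := fun _ : Fin k => N) (N := K)).injective ?_
    rw [key, map_zero]
    exact funext h

variable [Algebra.FiniteType A B]

theorem assIn_iff_injective {k : ℕ} (j : Fin k → B) (W : Set (PrimeSpectrum B))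
    (hW : ∀ Q : PrimeSpectrum B, Q ∈ W ↔ ∃ i, j i ∉ Q.asIdeal) (t : Ideal A) [t.IsPrime] :
    AssIn A N W t ↔ Function.Injective ((mulMap N j |>.restrictScalars A).lTensor t.ResidueField) := by
  haveI : IsNoetherianRing (t.Fiber B) := Algebra.FiniteType.isNoetherianRing t.ResidueField _
  obtain ⟨e, he⟩ := GrothLib.WeakAssFib.exists_fibreEquiv (S := B) t N
  rw [LinearMap.lTensor_inj_iff_rTensor_inj, injective_iff_map_eq_zero]
  constructor
  · intro h z hz
    by_contra hz0
    have hjz := (mulMap_tmul_eq_zero_iff j t.ResidueField z).1 hz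
    obtain ⟨P, hP, hle⟩ := exists_le_isAssociatedPrime_of_isNoetherianRing (R := t.Fiber B)
      (e z) (fun h0 => hz0 (e.injective (h0.trans (map_zero e).symm)))
    haveI := hP.isPrime
    let Q := P.comap (GrothLib.WeakAssFib.toFib t)
    have hQt : Q.LiesOver t := ⟨(GrothLib.WeakAssFib.comap_comap_toFib t P).symm⟩
    obtain ⟨i, hi⟩ := (hW _).1 (h Q inferInstance hQt (by rw [GrothLib.WeakAssFib.fiberIdeal_comap]; exact hP))
    refine hi (hle ?_)
    rw [Submodule.mem_colon_singleton, Submodule.mem_bot, ← he, hjz i, map_zero]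
  · intro h Q hQ hQt hass
    haveI := hQ
    haveI := hQt
    rw [hW]
    by_contra! hall
    obtain ⟨hP, x, hx⟩ := isAssociatedPrime_iff.1 hass
    obtain ⟨z, rfl⟩ := e.surjective x
    have hjz : ∀ i, j i • z = 0 := fun i => by
      refine e.injective ?_
      rw [he, map_zero]
      have hm : GrothLib.WeakAssFib.toFib t (j i) ∈ FlatCA.fiberIdeal t Q := Ideal.mem_map_of_mem _ (hall i)
      rw [hx, Submodule.mem_colon_singleton, Submodule.mem_bot] at hm
      exact hm
    have hz0 := h z ((mulMap_tmul_eq_zero_iff j t.ResidueField z).2 hjz)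
    rw [hz0, map_zero] at hx
    exact hP.ne_top (by rw [hx]; ext y; simp)

/-- A quasi-compact open is a finite union of principal opens. -/
theorem exists_elements_of_isCompact {W : Set (PrimeSpectrum B)} (hWo : IsOpen W) (hWc : IsCompact W) :
    ∃ (k : ℕ) (j : Fin k → B), ∀ Q : PrimeSpectrum B, Q ∈ W ↔ ∃ i, j i ∉ Q.asIdeal := by
  classical
  obtain ⟨t, ht⟩ := hWc.elim_finite_subcover (fun b : {b : B // (PrimeSpectrum.basicOpen b : Set (PrimeSpectrum B)) ⊆ W} =>
      (PrimeSpectrum.basicOpen b.1 : Set (PrimeSpectrum B))) (fun b => (PrimeSpectrum.basicOpen b.1).isOpen) fun x hx => by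
    obtain ⟨_, ⟨b, rfl⟩, hxb, hbW⟩ := PrimeSpectrum.isTopologicalBasis_basic_opens.exists_subset_of_mem_open hx hWo
    exact Set.mem_iUnion.2 ⟨⟨b, hbW⟩, hxb⟩
  refine ⟨t.card, fun i => (t.equivFin.symm i).1.1, fun Q => ⟨fun hQ => ?_, ?_⟩⟩
  · obtain ⟨b, hb, hQb⟩ := Set.mem_iUnion₂.1 (ht hQ)
    exact ⟨t.equivFin ⟨b, hb⟩, by simpa using hQb⟩
  · rintro ⟨i, hi⟩
    exact (t.equivFin.symm i).1.2 hi

/-- If the associated points of the fibres over the generisations of `p` lie in a quasi-compact open, so do
those of all nearby fibres. -/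
theorem exists_assIn_away [Algebra.FinitePresentation A B] [Module.FinitePresentation B N] [Module.Flat A N]
    {W : Set (PrimeSpectrum B)} (hWo : IsOpen W) (hWc : IsCompact W) (p : Ideal A) [p.IsPrime]
    (h : ∀ (t : Ideal A) [t.IsPrime], t ≤ p → AssIn A N W t) :
    ∃ g ∉ p, ∀ (t : Ideal A) [t.IsPrime], g ∉ t → AssIn A N W t := by
  obtain ⟨k, j, hj⟩ := exists_elements_of_isCompact hWo hWc
  haveI : Module.Flat A (Fin k → N) := GrothLib.RG6.flat_pi k
  obtain ⟨g, hg, H⟩ := exists_fibre_injective_away (M := Fin k → N) (mulMap N j) p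
    fun t _ ht => (assIn_iff_injective j W hj t).1 (h t ht)
  exact ⟨g, hg, fun t _ ht => (assIn_iff_injective j W hj t).2 (H t ht)⟩

end GrothLib.ProjPure13
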