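import Groth.Agent.Lib.RG6.WeakAss
import Groth.Agent.Lib.RG6.Impure.Transport
import Mathlib.RingTheory.Unramified.LocalRing

/-!
Associated points of fibres along étale maps, and points of base changes.
-/

set_option autoImplicit false
set_option linter.style.haveILetI false
set_option linter.unusedSectionVars false
universe u

open TensorProduct

namespace GrothLib.ProjPure13

/-- A prime over an associated point of a fibre is associated, along an étale map. -/
theorem ass_etale {A B B' : Type u} [CommRing A] [CommRing B] [CommRing B'] [Algebra A B] [Algebra B B'] [Algebra A B']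
    [IsScalarTower A B B'] [Algebra.FiniteType A B] [Algebra.Etale B B']
    {N N' : Type u} [AddCommGroup N] [Module B N] [Module A N] [IsScalarTower A B N] [AddCommGroup N'] [Module B' N']
    [Module B N'] [IsScalarTower B B' N'] [Module A N'] [IsScalarTower A B' N'] (f : N →ₗ[B] N') (hf : IsBaseChange B' f)
    (t : Ideal A) [t.IsPrime] (Q : Ideal B) [Q.IsPrime] [Q.LiesOver t]
    (h : FlatCA.fiberIdeal t Q ∈ associatedPrimes (t.Fiber B) (FlatCA.fiberMod t B N))
    (Q' : Ideal B') [Q'.IsPrime] [Q'.LiesOver Q] [Q'.LiesOver t] :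
    FlatCA.fiberIdeal t Q' ∈ associatedPrimes (t.Fiber B') (FlatCA.fiberMod t B' N') := by
  haveI : Algebra.FiniteType A B' := Algebra.FiniteType.trans (S := B) inferInstance inferInstance
  obtain ⟨w₀, hw₀⟩ := GrothLib.RG6.exists_of_mem_ass t Q h
  haveI : IsScalarTower A B N' := IsScalarTower.of_algebraMap_smul fun a x => by
    rw [← algebraMap_smul B' (algebraMap A B a) x, ← IsScalarTower.algebraMap_apply A B B', algebraMap_smul]
  let X := N ⊗[A] t.ResidueField
  let Φ : B' ⊗[B] X ≃ₗ[B'] N' ⊗[A] t.ResidueField :=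
    (AlgebraTensorModule.assoc A B B' B' N t.ResidueField).symm ≪≫ₗ
      AlgebraTensorModule.congr hf.equiv (LinearEquiv.refl A t.ResidueField)
  let w := Φ ((1 : B') ⊗ₜ[B] w₀)
  let g : B ⧸ Q →ₗ[B] X := Submodule.liftQ Q (LinearMap.toSpanSingleton B X w₀) fun s hs => (hw₀ s).2 hs
  have hg : Function.Injective g := LinearMap.ker_eq_bot.1 (Submodule.ker_liftQ_eq_bot _ _ _ fun s hs => (hw₀ s).1 hs)
  have hann : ∀ s : B', s • w = 0 ↔ s ∈ Q.map (algebraMap B B') := fun s => by
    rw [← Φ.map_smul, LinearEquiv.map_eq_zero_iff, TensorProduct.smul_tmul', smul_eq_mul, mul_one]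
    have h1 : g.lTensor B' (s ⊗ₜ[B] (Ideal.Quotient.mk Q 1 : B ⧸ Q)) = s ⊗ₜ[B] w₀ := by
      rw [LinearMap.lTensor_tmul, show g (Ideal.Quotient.mk Q 1) = w₀ from one_smul B w₀]
    rw [← h1, map_eq_zero_iff _ (Module.Flat.lTensor_preserves_injective_linearMap (M := B') g hg),
      ← LinearEquiv.map_eq_zero_iff (TensorProduct.tensorQuotEquivQuotSMul B' Q),
      TensorProduct.tensorQuotEquivQuotSMul_tmul_mk, one_smul, Submodule.Quotient.mk_eq_zero, Ideal.smul_top_eq_map]
    rfl
  refine GrothLib.RG6.mem_ass_of_local t Q' w (fun s hs => ?_) fun s hs => ?_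
  · exact Ideal.map_le_iff_le_comap.2 (‹Q'.LiesOver Q›.over.le) ((hann s).1 hs)
  · letI := Localization.AtPrime.algebraOfLiesOver Q Q'
    haveI : Algebra.IsUnramifiedAt B Q' := inferInstance
    have hmax := ((Algebra.isUnramifiedAt_iff_map_eq B Q Q').1 inferInstance).2
    have hm : algebraMap B' (Localization.AtPrime Q') s ∈
        (Q.map (algebraMap B B')).map (algebraMap B' (Localization.AtPrime Q')) := by
      rw [Ideal.map_map, ← IsScalarTower.algebraMap_eq B B' (Localization.AtPrime Q'), hmax,
        ← Localization.AtPrime.map_eq_maximalIdeal]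
      exact Ideal.mem_map_of_mem _ hs
    obtain ⟨u, hu, hus⟩ := (IsLocalization.algebraMap_mem_map_algebraMap_iff Q'.primeCompl
      (Localization.AtPrime Q') _ _).1 hm
    exact ⟨u, hu, (hann _).2 hus⟩

/-- Two field extensions have a nonzero tensor product. -/
theorem injective_includeLeft_field {k K₁ K₂ : Type u} [Field k] [Field K₁] [Field K₂] [Algebra k K₁] [Algebra k K₂] :
    Function.Injective (Algebra.TensorProduct.includeLeft : K₁ →ₐ[k] K₁ ⊗[k] K₂) :=
  Algebra.TensorProduct.includeLeft_injective (RingHom.injective _)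

/-- A tensor product has a point over two compatible points. -/
theorem exists_prime_tensor {R S T : Type u} [CommRing R] [CommRing S] [CommRing T] [Algebra R S] [Algebra R T]
    (P : Ideal S) [P.IsPrime] (Q : Ideal T) [Q.IsPrime]
    (h : P.comap (algebraMap R S) = Q.comap (algebraMap R T)) :
    ∃ M : Ideal (S ⊗[R] T), M.IsPrime ∧ M.comap (Algebra.TensorProduct.includeLeftRingHom : S →+* S ⊗[R] T) = P := by
  let r : Ideal R := P.comap (algebraMap R S)
  haveI : r.IsPrime := Ideal.IsPrime.comap _
  letI : Algebra r.ResidueField P.ResidueField := (Ideal.ResidueField.map r P (algebraMap R S) rfl).toAlgebra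
  letI : Algebra r.ResidueField Q.ResidueField := (Ideal.ResidueField.map r Q (algebraMap R T) h).toAlgebra
  haveI : IsScalarTower R r.ResidueField P.ResidueField := IsScalarTower.of_algebraMap_eq fun x => by
    rw [IsScalarTower.algebraMap_apply R S P.ResidueField]
    exact (Ideal.ResidueField.map_algebraMap r P _ _ x).symm
  haveI : IsScalarTower R r.ResidueField Q.ResidueField := IsScalarTower.of_algebraMap_eq fun x => by
    rw [IsScalarTower.algebraMap_apply R T Q.ResidueField]
    exact (Ideal.ResidueField.map_algebraMap r Q _ _ x).symm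
  let K := P.ResidueField ⊗[r.ResidueField] Q.ResidueField
  have hinj : Function.Injective (Algebra.TensorProduct.includeLeft : P.ResidueField →ₐ[r.ResidueField] K) :=
    injective_includeLeft_field
  haveI : Nontrivial K := hinj.nontrivial
  let fS : S →ₐ[R] K := (Algebra.TensorProduct.includeLeft (R := r.ResidueField) (S := R)).comp
    (IsScalarTower.toAlgHom R S P.ResidueField)
  let fT : T →ₐ[R] K := ((Algebra.TensorProduct.includeRight (R := r.ResidueField)).restrictScalars R).comp
    (IsScalarTower.toAlgHom R T Q.ResidueField)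
  let ψ : S ⊗[R] T →ₐ[R] K := Algebra.TensorProduct.lift fS fT fun _ _ => Commute.all _ _
  obtain ⟨m, hm⟩ := Ideal.exists_maximal K
  refine ⟨m.comap ψ.toRingHom, inferInstance, ?_⟩
  ext s
  show ψ (s ⊗ₜ 1) ∈ m ↔ s ∈ P
  rw [Algebra.TensorProduct.lift_tmul, map_one, mul_one]
  show (Algebra.TensorProduct.includeLeft : P.ResidueField →ₐ[r.ResidueField] K) (algebraMap S P.ResidueField s) ∈ m ↔ s ∈ P
  refine ⟨fun hs => ?_, fun hs => by rw [Ideal.algebraMap_residueField_eq_zero.2 hs, map_zero]; exact zero_mem m⟩
  by_contra hsP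
  exact hm.ne_top (m.eq_top_of_isUnit_mem hs
    ((isUnit_iff_ne_zero.2 fun h0 => hsP (Ideal.algebraMap_residueField_eq_zero.1 h0)).map _))

end GrothLib.ProjPure13
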