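import Groth.Agent.Lib.ProjPure13.Covered
import Groth.Agent.Lib.RGProj13.SemiLocal
import Groth.Agent.Lib.RGProj13.FlatML
import Groth.Agent.Lib.RG6.RelAssInj

/-!
A pure flat module is Mittag-Leffler étale locally on the base.
-/

set_option autoImplicit false
set_option linter.style.haveILetI false
set_option linter.unusedSectionVars false
set_option backward.isDefEq.respectTransparency false
universe u

open TensorProduct GrothLib.AssPts

namespace GrothLib.ProjPure13

/-- Base changes stay injective on test modules where a given element acts injectively. -/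
theorem baseChange_injective_of_assIn {A B B' : Type u} [CommRing A] [CommRing B] [CommRing B'] [Algebra A B]
    [Algebra B B'] [Algebra A B'] [IsScalarTower A B B'] [Algebra.FiniteType A B] [Module.Flat B B']
    (N : Type u) [AddCommGroup N] [Module B N] [Module A N] [IsScalarTower A B N] [Module.Finite B N] [Module.Flat A N]
    (g : A) (h : ∀ (t : Ideal A) [t.IsPrime], g ∉ t → AssIn A N (Set.range (PrimeSpectrum.comap (algebraMap B B'))) t)
    (A' : Type u) [AddCommGroup A'] [Module A A'] (hg : Function.Injective fun a : A' => g • a) :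
    Function.Injective (((TensorProduct.mk B B' N 1).restrictScalars A).lTensor A') := by
  rw [injective_iff_map_eq_zero]
  intro z hz
  let X := N ⊗[A] A'
  let ι : A' → (N →ₗ[B] X) := fun a => (AlgebraTensorModule.mk A B N A').flip a
  let Ψ : A' ⊗[A] (B' ⊗[B] N) →ₗ[A] B' ⊗[B] X := TensorProduct.lift (LinearMap.mk₂ A
    (fun a y => (ι a).lTensor B' y)
    (fun a a' y => by simp only [ι, map_add, LinearMap.lTensor_add, LinearMap.add_apply])
    (fun c a y => by
      induction y using TensorProduct.induction_on with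
      | zero => simp
      | add u v hu hv => simp only [map_add, hu, hv, smul_add]
      | tmul b n =>
        show b ⊗ₜ[B] (n ⊗ₜ[A] (c • a)) = c • (b ⊗ₜ[B] (n ⊗ₜ[A] a))
        rw [TensorProduct.tmul_smul, TensorProduct.tmul_smul])
    (fun a y y' => map_add _ _ _)
    (fun c a y => LinearMap.map_smul_of_tower _ _ _))
  have hΨ : ∀ z, Ψ (((TensorProduct.mk B B' N 1).restrictScalars A).lTensor A' z) =
      (1 : B') ⊗ₜ[B] (TensorProduct.comm A A' N z : X) := fun z => by
    induction z using TensorProduct.induction_on with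
    | zero => simp
    | add u v hu hv => simp only [map_add, hu, hv, tmul_add]
    | tmul a n => simp [Ψ, ι]; rfl
  have h0 : (1 : B') ⊗ₜ[B] (TensorProduct.comm A A' N z : X) = 0 := by rw [← hΨ, hz, map_zero]
  refine (TensorProduct.comm A A' N).map_eq_zero_iff.1
    (GrothLib.RG6.eq_zero_of_one_tmul_eq_zero (fun q hq => ?_) _ h0)
  obtain ⟨m, hm⟩ := mem_weakAss_iff.1 hq
  haveI := hm.1.1
  haveI : q.LiesOver (q.under A) := ⟨rfl⟩
  haveI : (q.under A).IsPrime := Ideal.IsPrime.comap _
  have hgX : ∀ x : X, g • x = 0 → x = 0 := fun x hx => by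
    refine Module.Flat.lTensor_preserves_injective_linearMap (M := N) (LinearMap.lsmul A A' g) hg ?_
    rw [map_zero, ← hx]
    clear hx
    induction x using TensorProduct.induction_on with
    | zero => simp
    | add a b ha hb => simp only [map_add, smul_add, ha, hb]
    | tmul n a => rw [LinearMap.lTensor_tmul, LinearMap.lsmul_apply, TensorProduct.tmul_smul]
  have hgq : g ∉ q.under A := fun hgq => by
    obtain ⟨y, hy, hgy⟩ := Ideal.exists_mul_mem_of_mem_minimalPrimes hm (show algebraMap A B g ∈ q from hgq)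
    rw [Submodule.mem_colon_singleton, Submodule.mem_bot] at hy hgy
    refine hy (hgX _ ?_)
    rwa [← algebraMap_smul B g, smul_smul]
  obtain ⟨w, hw⟩ := h (q.under A) hgq q inferInstance inferInstance
    (GrothLib.RG6.weakAss_fibre_of_flatAt N A' (q.under A) q (GrothLib.NagataFP.flat_localized _) hq).2
  exact ⟨w.asIdeal, w.2, congrArg PrimeSpectrum.asIdeal hw⟩

/-- Universal injectivity of a base change to a localization. -/
theorem univInj_baseChange {A A₁ M M' : Type u} [CommRing A] [CommRing A₁] [Algebra A A₁] [AddCommGroup M] [Module A M]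
    [AddCommGroup M'] [Module A M'] (f : M →ₗ[A] M')
    (h : ∀ (Q : Type u) [AddCommGroup Q] [Module A Q] [Module A₁ Q] [IsScalarTower A A₁ Q], Function.Injective (f.lTensor Q)) :
    FlatCA.UnivInj A₁ (f.baseChange A₁) := fun Q _ _ => by
  letI : Module A Q := Module.compHom Q (algebraMap A A₁)
  haveI : IsScalarTower A A₁ Q := IsScalarTower.of_algebraMap_smul fun _ _ => rfl
  let e := AlgebraTensorModule.cancelBaseChange A A₁ A₁ Q M
  let e' := AlgebraTensorModule.cancelBaseChange A A₁ A₁ Q M'
  have key : ∀ z, e' ((f.baseChange A₁).lTensor Q z) = f.lTensor Q (e z) := fun z => by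
    induction z using TensorProduct.induction_on with
    | zero => simp
    | add a b ha hb => simp only [map_add, ha, hb]
    | tmul q x =>
      induction x using TensorProduct.induction_on with
      | zero => simp
      | add a b ha hb => simp only [TensorProduct.tmul_add, map_add, ha, hb]
      | tmul c m => simp [e, e']
  intro x y hxy
  have := congrArg e' hxy
  rw [key, key] at this
  exact e.injective (h Q this)

/-- A pure flat module is Mittag-Leffler over an étale neighbourhood of each prime. -/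
theorem exists_ml_nhd {A B : Type u} [CommRing A] [CommRing B] [Algebra A B] [Algebra.FinitePresentation A B]
    (N : Type u) [AddCommGroup N] [Module B N] [Module A N] [IsScalarTower A B N] [Module.FinitePresentation B N]
    [Module.Flat A N] (p : Ideal A) [p.IsPrime] (hpure : FlatCA.IsPureAlong A B N p) :
    ∃ (A₁ : Type u) (_ : CommRing A₁) (_ : Algebra A A₁), Algebra.Etale A A₁ ∧
      (⟨p, inferInstance⟩ : PrimeSpectrum A) ∈ Set.range (PrimeSpectrum.comap (algebraMap A A₁)) ∧
      CAlg.IsMittagLeffler A₁ (A₁ ⊗[A] N) := by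
  obtain ⟨A₀, B₀, _, _, _, _, _, _, _, _, p₀, _, hA₀, hB₀, hsurj, hproj⟩ :=
    GrothLib.RGProj13.exists_projective_fibre' (R := A) (S := B) (N := N) p
      (fun q _ _ => GrothLib.NagataFP.flat_localized _)
  haveI : Algebra.Etale A A₀ := hA₀.1
  haveI : Algebra.Etale B B₀ := hB₀
  obtain ⟨ho, hb⟩ := hA₀.2
  haveI := ho
  letI : Algebra B (A₀ ⊗[A] B) := Algebra.TensorProduct.rightAlgebra
  let BA := A₀ ⊗[A] B
  let NA := BA ⊗[B] N
  letI : Algebra BA B₀ := (Algebra.TensorProduct.lift (IsScalarTower.toAlgHom A A₀ B₀) (IsScalarTower.toAlgHom A B B₀)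
    fun _ _ => mul_comm _ _).toRingHom.toAlgebra
  have hl : ∀ (a : A₀) (b : B), algebraMap BA B₀ (a ⊗ₜ b) = algebraMap A₀ B₀ a * algebraMap B B₀ b := fun a b =>
    Algebra.TensorProduct.lift_tmul _ _ _ a b
  haveI : IsScalarTower A₀ BA B₀ := IsScalarTower.of_algebraMap_eq fun a => by
    rw [Algebra.TensorProduct.algebraMap_apply, Algebra.algebraMap_self, RingHom.id_apply, hl, map_one, mul_one]
  haveI : IsScalarTower B BA B₀ := IsScalarTower.of_algebraMap_eq fun b => by
    rw [Algebra.TensorProduct.right_algebraMap_apply, hl, map_one, one_mul]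
  haveI : Algebra.Etale B BA := Algebra.Etale.of_equiv
    ({ (Algebra.TensorProduct.comm A B A₀).toRingEquiv with
      commutes' := fun s => by
        show Algebra.TensorProduct.comm A B A₀ (algebraMap B (B ⊗[A] A₀) s) = algebraMap B (A₀ ⊗[A] B) s
        rw [Algebra.TensorProduct.algebraMap_apply, Algebra.algebraMap_self, RingHom.id_apply,
          Algebra.TensorProduct.comm_tmul, Algebra.TensorProduct.right_algebraMap_apply] } : B ⊗[A] A₀ ≃ₐ[B] BA)
  haveI : Algebra.Etale BA B₀ := Algebra.Etale.of_restrictScalars B BA B₀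
  let eN : NA ≃ₗ[A₀] A₀ ⊗[A] N := Algebra.IsPushout.cancelBaseChange A A₀ B BA N
  haveI : Module.Flat A₀ NA := Module.Flat.of_linearEquiv eN
  -- the image of the étale cover
  let W := Set.range (PrimeSpectrum.comap (algebraMap BA B₀))
  have hWo : IsOpen W :=
    (PrimeSpectrum.isOpenMap_comap_of_hasGoingDown_of_finitePresentation (R := BA) (S := B₀)).isOpen_range
  have hWc : IsCompact W := isCompact_range (PrimeSpectrum.continuous_comap (algebraMap BA B₀))
  have hgen : ∀ (t : Ideal A₀) [t.IsPrime], t ≤ p₀ → AssIn A₀ NA W t := by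
    intro t _ htp Q hQ hQt hass
    haveI := hQ
    have hnot := hpure A₀ BA NA (TensorProduct.mk B BA N 1) t p₀ Q hA₀
    obtain ⟨P', hP', hQP, hPp⟩ : ∃ P' : Ideal BA, P'.IsPrime ∧ Q ≤ P' ∧ P'.LiesOver p₀ := by
      by_contra! hne
      exact hnot ⟨inferInstance, TensorProduct.isBaseChange B N BA, htp, ho, hQt, hass,
        fun P' hP' hle hover => hne P' hP' hle hover⟩
    haveI := hP'
    let q := P'.comap (algebraMap B BA)
    haveI hqp : q.LiesOver p := ⟨by
      show p = (P'.comap (algebraMap B BA)).comap (algebraMap A B)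
      rw [Ideal.comap_comap, ← IsScalarTower.algebraMap_eq A B BA, IsScalarTower.algebraMap_eq A A₀ BA,
        ← Ideal.comap_comap]
      exact ho.over.trans (congrArg (Ideal.comap (algebraMap A A₀)) hPp.over)⟩
    obtain ⟨q', hq', hq'B, hq'A⟩ := hsurj q hqp
    obtain ⟨Q₀, _, -, -, -, huniq⟩ := GrothLib.RG6.Dev.exists_baseChange_point (B := B) p p₀ ho hb q
    let P₂ := q'.comap (algebraMap BA B₀)
    have hP₂ : P₂.LiesOver p₀ := ⟨by
      show p₀ = (q'.comap (algebraMap BA B₀)).comap (algebraMap A₀ BA)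
      rw [Ideal.comap_comap, ← IsScalarTower.algebraMap_eq A₀ BA B₀]
      exact hq'A.symm⟩
    have hP₂q : P₂.comap (algebraMap B BA) = q := by
      show (q'.comap (algebraMap BA B₀)).comap (algebraMap B BA) = q
      rw [Ideal.comap_comap, ← IsScalarTower.algebraMap_eq B BA B₀]
      exact hq'B
    have hPeq : P' = P₂ := (huniq P' hP' hPp rfl).trans (huniq P₂ (Ideal.IsPrime.comap _) hP₂ hP₂q).symm
    have hPW : (⟨P', hP'⟩ : PrimeSpectrum BA) ∈ W := ⟨⟨q', hq'⟩, PrimeSpectrum.ext hPeq.symm⟩
    exact hWo.stableUnderGeneralization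
      ((PrimeSpectrum.le_iff_specializes ⟨Q, hQ⟩ ⟨P', hP'⟩).1 hQP) hPW
  obtain ⟨g, hg, H⟩ := exists_assIn_away (A := A₀) (B := BA) (N := NA) hWo hWc p₀ hgen
  let A₁ := Localization.Away g
  haveI : Algebra.Etale A₀ A₁ := Algebra.Etale.of_isLocalizationAway g
  haveI : Algebra.Etale A A₁ := Algebra.Etale.comp A A₀ A₁
  let M' := B₀ ⊗[BA] NA
  let u : NA →ₗ[A₀] M' := (TensorProduct.mk BA B₀ NA 1).restrictScalars A₀
  have hu : FlatCA.UnivInj A₁ (u.baseChange A₁) := univInj_baseChange u fun Q _ _ _ _ =>
    baseChange_injective_of_assIn (A := A₀) (B := BA) (B' := B₀) NA g (fun t _ ht => H t ht) Q fun x y hxy => by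
      refine (IsLocalization.Away.algebraMap_isUnit (S := A₁) g).smul_left_cancel.1 ?_
      rw [algebraMap_smul, algebraMap_smul]
      exact hxy
  haveI : Module.Projective A₀ M' := by
    haveI := hproj
    haveI : Module.Projective A₀ (B₀ ⊗[B] N) := Module.Projective.of_equiv
      ({ (RestrictScalars.addEquiv A₀ B₀ (B₀ ⊗[B] N)) with
         map_smul' := fun a z => by
          show algebraMap A₀ B₀ a • RestrictScalars.addEquiv A₀ B₀ _ z = a • RestrictScalars.addEquiv A₀ B₀ _ z
          rw [algebraMap_smul] } : RestrictScalars A₀ B₀ (B₀ ⊗[B] N) ≃ₗ[A₀] B₀ ⊗[B] N)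
    exact Module.Projective.of_equiv ((AlgebraTensorModule.cancelBaseChange B BA B₀ B₀ N).symm.restrictScalars A₀)
  haveI : Module.Projective A₁ (A₁ ⊗[A₀] M') := inferInstance
  have hML : CAlg.IsMittagLeffler A₁ (A₁ ⊗[A₀] NA) :=
    GrothLib.RGProj13.ml_of_univInj (u.baseChange A₁) hu (GrothLib.ML.ml_of_projective _)
  let e : A₁ ⊗[A] N ≃ₗ[A₁] A₁ ⊗[A₀] NA :=
    (AlgebraTensorModule.cancelBaseChange A A₀ A₁ A₁ N).symm ≪≫ₗ
      AlgebraTensorModule.congr (LinearEquiv.refl A₁ A₁) eN.symm
  refine ⟨A₁, inferInstance, inferInstance, inferInstance, ?_,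
    GrothLib.ML.ml_of_retract e.toLinearMap e.symm.toLinearMap (LinearMap.ext fun x => e.symm_apply_apply x) hML⟩
  obtain ⟨z, hz⟩ : (⟨p₀, inferInstance⟩ : PrimeSpectrum A₀) ∈ Set.range (PrimeSpectrum.comap (algebraMap A₀ A₁)) := by
    rw [PrimeSpectrum.localization_away_comap_range A₁ g]
    exact hg
  refine ⟨z, PrimeSpectrum.ext ?_⟩
  show z.asIdeal.comap (algebraMap A A₁) = p
  rw [IsScalarTower.algebraMap_eq A A₀ A₁, ← Ideal.comap_comap]
  exact (congrArg (fun w : PrimeSpectrum A₀ => w.asIdeal.comap (algebraMap A A₀)) hz).trans ho.over.symm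

end GrothLib.ProjPure13
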