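import Mathlib

/-!
The locus where a surjection out of a projective module becomes bijective.
-/

set_option autoImplicit false
set_option linter.style.haveILetI false
universe u

open TensorProduct

namespace GrothLib.ProjPure13

variable {A B N N' : Type u} [CommRing A] [CommRing B] [Algebra A B] [AddCommGroup N] [Module B N] [Module A N]
  [IsScalarTower A B N] [AddCommGroup N'] [Module B N'] [Module A N'] [IsScalarTower A B N']

/-- The ideal of the coordinates of the generators of the kernel cuts out the locus. -/
theorem bijective_baseChange_iff {ι : Type u} (s : N →ₗ[A] ι →₀ A) (r : (ι →₀ A) →ₗ[A] N)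
    (hrs : r ∘ₗ s = LinearMap.id) (u : N →ₗ[B] N') (hu : Function.Surjective u) (S : Set N)
    (hS : Submodule.span B S = LinearMap.ker u) (A' : Type u) [CommRing A'] [Algebra A A'] :
    Function.Bijective ((u.restrictScalars A).baseChange A') ↔
      (Ideal.span {a : A | ∃ k ∈ S, ∃ i, s k i = a}).map (algebraMap A A') = ⊥ := by
  classical
  let eF : A' ⊗[A] (ι →₀ A) ≃ₗ[A] ι →₀ A' := TensorProduct.finsuppScalarRight A A A' ι
  let c : A' ⊗[A] N → ι →₀ A' := fun z => eF (s.lTensor A' z)
  have hc : ∀ (a : A') (k : N) i, c (a ⊗ₜ k) i = s k i • a := fun a k i => by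
    simp [c, eF, TensorProduct.finsuppScalarRight_apply_tmul_apply]
  have hcinj : Function.Injective c := fun z w hzw => by
    have h := congrArg (r.lTensor A') (eF.injective hzw)
    rwa [← LinearMap.comp_apply, ← LinearMap.comp_apply, ← LinearMap.lTensor_comp, hrs, LinearMap.lTensor_id,
      LinearMap.id_apply, LinearMap.id_apply] at h
  have hcoe : ((u.restrictScalars A).baseChange A' : A' ⊗[A] N → A' ⊗[A] N') = (u.restrictScalars A).lTensor A' := rfl
  have hsurj : Function.Surjective ((u.restrictScalars A).lTensor A') := LinearMap.lTensor_surjective A' hu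
  rw [hcoe, Ideal.map_span, Ideal.span_eq_bot]
  constructor
  · rintro h _ ⟨a, ⟨k, hk, i, rfl⟩, rfl⟩
    have hk0 : u k = 0 := LinearMap.mem_ker.1 (hS ▸ Submodule.subset_span hk)
    have h1 : (1 : A') ⊗ₜ[A] k = 0 := h.1 (by
      rw [LinearMap.lTensor_tmul, LinearMap.restrictScalars_apply, hk0, TensorProduct.tmul_zero, map_zero])
    have h2 := hc 1 k i
    rw [h1] at h2
    simp only [c, map_zero, Finsupp.coe_zero, Pi.zero_apply] at h2
    rw [Algebra.algebraMap_eq_smul_one]
    exact h2.symm
  · intro h
    have hzero : ∀ k ∈ LinearMap.ker u, ∀ a : A', a ⊗ₜ[A] k = 0 := by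
      intro k hk
      rw [← hS] at hk
      induction hk using Submodule.span_induction with
      | mem k hk =>
        intro a
        refine hcinj ?_
        have h0 : c 0 = 0 := by simp [c]
        rw [h0]
        ext i
        have h3 : algebraMap A A' (s k i) = 0 := h _ ⟨_, ⟨k, hk, i, rfl⟩, rfl⟩
        rw [hc, Algebra.smul_def, h3, zero_mul, Finsupp.coe_zero, Pi.zero_apply]
      | zero => exact fun a => TensorProduct.tmul_zero _ _
      | add x y _ _ hx hy => exact fun a => by rw [TensorProduct.tmul_add, hx, hy, add_zero]
      | smul b x _ hx =>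
        intro a
        have := congrArg ((LinearMap.lsmul B N b).restrictScalars A |>.lTensor A') (hx a)
        simpa using this
    refine ⟨(injective_iff_map_eq_zero _).2 fun z hz => ?_, hsurj⟩
    obtain ⟨w, rfl⟩ := (lTensor_exact A' (LinearMap.exact_subtype_ker_map (u.restrictScalars A)) hu z).1 hz
    clear hz
    induction w using TensorProduct.induction_on with
    | zero => exact map_zero _
    | add x y hx hy => rw [map_add, hx, hy, add_zero]
    | tmul a k => rw [LinearMap.lTensor_tmul]; exact hzero k.1 (show u k.1 = 0 from k.2) a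

end GrothLib.ProjPure13
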