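import Groth.Agent.Lib.ProjPure13.Local
import Groth.Agent.Lib.RGProj13.PureEndo
import Groth.Agent.Lib.ML.Countable
import Groth.Agent.Lib.ML.Descent

/-!
A pure flat finitely presented module is projective over the base.
-/

set_option autoImplicit false
set_option linter.style.haveILetI false
set_option linter.unusedSectionVars false
universe u

open TensorProduct

namespace GrothLib.ProjPure13

/-- The Mittag-Leffler property glues over a finite product of rings. -/
theorem ml_pi {A N : Type u} [CommRing A] [AddCommGroup N] [Module A N] {ι : Type u} [Fintype ι] (C : ι → Type u)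
    [∀ i, CommRing (C i)] [∀ i, Algebra A (C i)] (h : ∀ i, CAlg.IsMittagLeffler (C i) (C i ⊗[A] N)) :
    CAlg.IsMittagLeffler (∀ i, C i) ((∀ i, C i) ⊗[A] N) := by
  classical
  let P := ∀ i, C i
  letI : ∀ i, Algebra P (C i) := fun i => (Pi.evalRingHom C i).toAlgebra
  haveI : ∀ i, IsScalarTower A P (C i) := fun i => IsScalarTower.of_algebraMap_eq fun _ => rfl
  haveI : ∀ i, Module.FinitePresentation P (C i) := fun i => by
    let π : P →ₗ[P] C i := Algebra.linearMap P (C i)
    have hπ : Function.Surjective π := fun c => ⟨Pi.single i c, Pi.single_eq_same (M := C) i c⟩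
    refine Module.finitePresentation_of_surjective π hπ ?_
    have hker : LinearMap.ker π = Submodule.span P {1 - Pi.single i (1 : C i)} := by
      refine le_antisymm (fun x hx => Submodule.mem_span_singleton.2 ⟨x, ?_⟩) ?_
      · funext j
        rw [Pi.smul_apply', Pi.sub_apply, Pi.one_apply, smul_eq_mul]
        by_cases hj : j = i
        · subst hj
          rw [Pi.single_eq_same, sub_self, mul_zero]
          exact (LinearMap.mem_ker.1 hx).symm
        · rw [Pi.single_eq_of_ne hj, sub_zero, mul_one]
      · rw [Submodule.span_singleton_le_iff_mem, LinearMap.mem_ker]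
        show (1 - Pi.single i (1 : C i) : P) i = 0
        rw [Pi.sub_apply, Pi.one_apply, Pi.single_eq_same, sub_self]
    rw [hker]
    exact Submodule.fg_span_singleton _
  have hi : ∀ i, CAlg.IsMittagLeffler P (C i ⊗[A] N) := fun i =>
    GrothLib.ML.ml_restrict_of_finite (S := C i) (h i)
  let eL := TensorProduct.piLeft (R := A) (M := C) (N := N)
  have hL : ∀ (a : P) (z : P ⊗[A] N), eL (a • z) = a • eL z := fun a z => by
    induction z using TensorProduct.induction_on with
    | zero => rw [smul_zero, map_zero, smul_zero]
    | add u v hu hv => rw [smul_add, map_add, map_add, hu, hv, smul_add]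
    | tmul c n =>
      funext T
      simp [eL, TensorProduct.smul_tmul']
      rfl
  let e1 : P ⊗[A] N ≃ₗ[P] ∀ i, C i ⊗[A] N := { eL.toAddEquiv with map_smul' := hL }
  let e := e1 ≪≫ₗ (DirectSum.linearEquivFunOnFintype P ι fun i => C i ⊗[A] N).symm
  exact GrothLib.ML.ml_of_retract e.toLinearMap e.symm.toLinearMap (LinearMap.ext fun x => e.symm_apply_apply x)
    (GrothLib.ML.ml_directSum _ hi)

/-- A pure flat finitely presented module is projective over the base. -/
theorem projective_of_isPure {A B : Type u} [CommRing A] [CommRing B] [Algebra A B] [Algebra.FinitePresentation A B]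
    (N : Type u) [AddCommGroup N] [Module B N] [Module A N] [IsScalarTower A B N] [Module.FinitePresentation B N]
    [Module.Flat A N] (h : FlatCA.IsPure A B N) : Module.Projective A N := by
  classical
  choose C iC aC hC hmem hML using fun p : PrimeSpectrum A => exists_ml_nhd (A := A) (B := B) N p.asIdeal (h p.asIdeal)
  letI := iC
  letI := aC
  obtain ⟨t, ht⟩ := isCompact_univ.elim_finite_subcover (fun p => Set.range (PrimeSpectrum.comap (algebraMap A (C p))))
    (fun p => by
      haveI := hC p
      exact (PrimeSpectrum.isOpenMap_comap_of_hasGoingDown_of_finitePresentation (R := A) (S := C p)).isOpen_range)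
    (fun p _ => Set.mem_iUnion.2 ⟨p, hmem p⟩)
  let D : t → Type u := fun i => C i.1
  let P := ∀ i, D i
  haveI : ∀ i : t, Algebra.Etale A (D i) := fun i => hC i.1
  haveI : Module.FaithfullyFlat A P := by
    refine Module.FaithfullyFlat.of_comap_surjective fun p => ?_
    obtain ⟨q, hq, z, hz⟩ := Set.mem_iUnion₂.1 (ht (Set.mem_univ p))
    exact ⟨PrimeSpectrum.comap (Pi.evalRingHom D ⟨q, hq⟩) z, hz⟩
  have hP : CAlg.IsMittagLeffler A N := GrothLib.ML.ml_descent (ml_pi D fun i => hML i.1)
  exact GrothLib.ML.projective_of_countable hP (GrothLib.RGProj13.countablyGenerated_of_finite (B := B))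

end GrothLib.ProjPure13
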