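import Groth.Agent.Lib.RG6.GenericBasis
import Groth.Agent.Lib.FibreUnivInj.Basic
import Groth.Agent.Lib.FlatFP.InjCoker
import Groth.Agent.S0387

/-!
Fibrewise injectivity of maps of flat finitely presented modules is open on the base.
-/

set_option autoImplicit false
set_option linter.style.haveILetI false
set_option linter.unusedSectionVars false
universe u

open TensorProduct FlatCA

namespace GrothLib.ProjPure13

/-- Injectivity after localizing, from elements killed by the monoid, for one test module. -/
theorem injective_rTensor_map {R S M N : Type u} [CommRing R] [CommRing S] [Algebra R S] [AddCommGroup M]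
    [Module S M] [Module R M] [IsScalarTower R S M] [AddCommGroup N] [Module S N] [Module R N] [IsScalarTower R S N]
    (T : Submonoid S) (α : M →ₗ[S] N) (Q : Type u) [AddCommGroup Q] [Module R Q]
    (h : ∀ y : M ⊗[R] Q, AlgebraTensorModule.rTensor R Q α y = 0 → ∃ t ∈ T, t • y = 0) :
    Function.Injective (((LocalizedModule.map T α).restrictScalars R).lTensor Q) := by
  rw [LinearMap.lTensor_inj_iff_rTensor_inj]
  show Function.Injective (AlgebraTensorModule.rTensor R Q ((LocalizedModule.map T α).restrictScalars S))
  rw [injective_iff_map_eq_zero]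
  intro w hw
  let mkM := AlgebraTensorModule.rTensor R Q (LocalizedModule.mkLinearMap T M)
  obtain ⟨⟨y, t⟩, ht⟩ := IsLocalizedModule.surj T mkM w
  have h1 : AlgebraTensorModule.rTensor R Q (LocalizedModule.mkLinearMap T N)
      (AlgebraTensorModule.rTensor R Q α y) = 0 := by
    rw [← GrothLib.RG6.rTensor_map_mk, ← show (t : S) • w = mkM y from ht, LinearMap.map_smul_of_tower, hw, smul_zero]
  obtain ⟨s, hs⟩ := (IsLocalizedModule.eq_zero_iff T _).1 h1
  obtain ⟨t', ht', h2⟩ := h ((s : S) • y) (by rw [map_smul]; exact hs)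
  have h3 : mkM y = 0 := by
    rw [IsLocalizedModule.eq_zero_iff T mkM]
    exact ⟨⟨t', ht'⟩ * s, by rw [mul_smul]; exact h2⟩
  exact ((Module.End.isUnit_iff _).1 (IsLocalizedModule.map_units mkM t)).1
    ((show (t : S) • w = mkM y from ht).trans h3 |>.trans (map_zero _).symm)

section Killed

variable {A B N M : Type u} [CommRing A] [CommRing B] [Algebra A B] [Algebra.FinitePresentation A B]
  [AddCommGroup N] [Module B N] [Module A N] [IsScalarTower A B N] [Module.FinitePresentation B N] [Module.Flat A N]
  [AddCommGroup M] [Module B M] [Module A M] [IsScalarTower A B M] [Module.Flat A M]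

/-- Injectivity on the fibres over the generisations of a prime kills all tensored kernels. -/
theorem killedKer_of_fibres (φ : N →ₗ[B] M) (p : Ideal A) [p.IsPrime]
    (h : ∀ (t : Ideal A) [t.IsPrime], t ≤ p → Function.Injective ((φ.restrictScalars A).lTensor t.ResidueField)) :
    GrothLib.RG6.KilledKer A (Algebra.algebraMapSubmonoid B p.primeCompl) φ := by
  obtain ⟨n, f, hf, hker⟩ := Algebra.FinitePresentation.out (R := A) (A := B)
  let P := MvPolynomial (Fin n) A
  letI : Algebra P B := f.toRingHom.toAlgebra
  haveI : IsScalarTower A P B := IsScalarTower.of_algebraMap_eq fun a => (f.commutes a).symm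
  haveI : Module.FinitePresentation P B := by
    refine Module.finitePresentation_of_surjective (Algebra.linearMap P B) hf ?_
    exact hker
  letI : Module P N := Module.compHom N f.toRingHom
  haveI : IsScalarTower P B N := IsScalarTower.of_algebraMap_smul fun _ _ => rfl
  letI : Module P M := Module.compHom M f.toRingHom
  haveI : IsScalarTower P B M := IsScalarTower.of_algebraMap_smul fun _ _ => rfl
  haveI : IsScalarTower A P N := IsScalarTower.of_algebraMap_smul fun a x => by
    show f (algebraMap A P a) • x = a • x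
    rw [f.commutes, algebraMap_smul]
  haveI : IsScalarTower A P M := IsScalarTower.of_algebraMap_smul fun a x => by
    show f (algebraMap A P a) • x = a • x
    rw [f.commutes, algebraMap_smul]
  haveI : Module.FinitePresentation P N := Module.FinitePresentation.trans (R := P) (M := N) (S := B)
  let φP : N →ₗ[P] M := φ.restrictScalars P
  let T := Algebra.algebraMapSubmonoid P p.primeCompl
  haveI : Module.Flat A (LocalizedModule T N) := GrothLib.NagataFP.flat_localized T
  haveI : Module.Flat A (LocalizedModule T M) := GrothLib.NagataFP.flat_localized T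
  have hu : FlatCA.UnivInj A ((LocalizedModule.map T φP).restrictScalars A) := by
    intro Q _ _
    refine GrothLib.FibreUnivInj.univInj T (LocalizedModule.mkLinearMap T N)
      ((LocalizedModule.map T φP).restrictScalars A) (fun t _ => ?_) Q
    refine injective_rTensor_map T φP t.ResidueField fun y hy => ?_
    by_cases htp : t ≤ p
    · have hy0 : y = 0 := ((LinearMap.lTensor_inj_iff_rTensor_inj _ (φ.restrictScalars A)).1 (h t htp))
        ((show (φ.restrictScalars A).rTensor t.ResidueField y = 0 from hy).trans (map_zero _).symm)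
      exact ⟨1, one_mem _, by rw [hy0, smul_zero]⟩
    · obtain ⟨a, hat, hap⟩ := SetLike.not_le_iff_exists.1 htp
      refine ⟨algebraMap A P a, Algebra.mem_algebraMapSubmonoid_of_mem ⟨a, hap⟩, ?_⟩
      clear hy
      induction y using TensorProduct.induction_on with
      | zero => exact smul_zero _
      | add u v hu hv => rw [smul_add, hu, hv, add_zero]
      | tmul m k =>
        rw [TensorProduct.smul_tmul', algebraMap_smul, TensorProduct.smul_tmul, Algebra.smul_def,
          Ideal.algebraMap_residueField_eq_zero.2 hat, zero_mul, TensorProduct.tmul_zero]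
  intro Q _ _ z hz
  obtain ⟨t, ⟨a, ha, rfl⟩, htz⟩ := (GrothLib.RG6.univInj_map_iff_killedKer T φP).1 hu Q z hz
  refine ⟨algebraMap A B a, Algebra.mem_algebraMapSubmonoid_of_mem ⟨a, ha⟩, ?_⟩
  rw [← htz]
  clear htz hz
  induction z using TensorProduct.induction_on with
  | zero => rw [smul_zero, smul_zero]
  | add u v hu hv => rw [smul_add, smul_add, hu, hv]
  | tmul m k => rw [TensorProduct.smul_tmul', TensorProduct.smul_tmul', algebraMap_smul, algebraMap_smul]

/-- The cokernel is flat at the points over the generisations. -/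
theorem flatAt_quotient_range (φ : N →ₗ[B] M) (q : Ideal B) [q.IsPrime] (T : Submonoid B) (hT : T ≤ q.primeCompl)
    (h : GrothLib.RG6.KilledKer A T φ) : Module.Flat A (LocalizedModule q.primeCompl (M ⧸ LinearMap.range φ)) := by
  haveI : Module.Flat A (LocalizedModule q.primeCompl M) := GrothLib.NagataFP.flat_localized _
  refine GrothLib.RG6.flat_of_univInj ((LocalizedModule.map q.primeCompl φ).restrictScalars A)
    ((LocalizedModule.map q.primeCompl (LinearMap.range φ).mkQ).restrictScalars A) ?_ ?_
    ((GrothLib.RG6.univInj_map_iff_killedKer q.primeCompl φ).2 (h.mono hT))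
  · exact LocalizedModule.map_exact q.primeCompl _ _ (LinearMap.exact_map_mkQ_range φ)
  · exact LocalizedModule.map_surjective q.primeCompl _ (Submodule.mkQ_surjective _)

/-- Fibrewise injectivity spreads from the generisations of a prime to a neighbourhood. -/
theorem exists_fibre_injective_away [Module.FinitePresentation B M] (φ : N →ₗ[B] M) (p : Ideal A) [p.IsPrime]
    (h : ∀ (t : Ideal A) [t.IsPrime], t ≤ p → Function.Injective ((φ.restrictScalars A).lTensor t.ResidueField)) :
    ∃ g ∉ p, ∀ (t : Ideal A) [t.IsPrime], g ∉ t → Function.Injective ((φ.restrictScalars A).lTensor t.ResidueField) := by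
  classical
  have hK := killedKer_of_fibres φ p h
  let C := M ⧸ LinearMap.range φ
  haveI : Module.FinitePresentation B C := Module.finitePresentation_of_surjective (LinearMap.range φ).mkQ
    (Submodule.mkQ_surjective _) (by rw [Submodule.ker_mkQ, LinearMap.range_eq_map]; exact Module.Finite.fg_top.map φ)
  -- the cokernel is flat over a neighbourhood
  obtain ⟨I, hI⟩ := (PrimeSpectrum.isClosed_iff_zeroLocus_ideal _).1
    (Groth.Agent.S0387.result (R := A) (S := B) (M := C)).isClosed_compl
  have hmem : ∀ q : PrimeSpectrum B, I ≤ q.asIdeal ↔ ¬ Module.Flat A (LocalizedModule q.asIdeal.primeCompl C) :=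
    fun q => (Set.ext_iff.1 hI q).symm
  obtain ⟨g₁, hg₁, hg₁I⟩ : ∃ a : A, a ∉ p ∧ algebraMap A B a ∈ I := by
    by_contra! hne
    have hd : Disjoint (I : Set B) (Algebra.algebraMapSubmonoid B p.primeCompl : Set B) :=
      Set.disjoint_left.2 fun b hb hbT => by
        obtain ⟨a, ha, rfl⟩ := hbT
        exact hne a ha hb
    obtain ⟨q, hq, hIq, hqd⟩ := Ideal.exists_le_prime_disjoint I _ hd
    refine (hmem ⟨q, hq⟩).1 hIq (flatAt_quotient_range φ q _ (fun b hb hbq => ?_) hK)
    exact Set.disjoint_left.1 hqd hbq hb
  have hflat : ∀ (q : Ideal B) [q.IsPrime], algebraMap A B g₁ ∉ q → Module.Flat A (LocalizedModule q.primeCompl C) :=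
    fun q _ hq => by
      by_contra hn
      exact hq (((hmem ⟨q, inferInstance⟩).2 hn) hg₁I)
  -- the kernel dies over a neighbourhood
  obtain ⟨k, hk0, hk⟩ := GrothLib.FlatFP.exists_fg_ker_away φ (LinearMap.range φ).mkQ
    (LinearMap.exact_map_mkQ_range φ) (Submodule.mkQ_surjective _) (algebraMap A B g₁) hflat
  have hkill : ∀ x ∈ k, ∃ a ∉ p, algebraMap A B a • x = 0 := fun x hx => by
    obtain ⟨_, ⟨a, ha, rfl⟩, ht⟩ := hK A (x ⊗ₜ (1 : A)) (by
      rw [AlgebraTensorModule.rTensor_tmul, hk0 x hx, TensorProduct.zero_tmul])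
    refine ⟨a, ha, ?_⟩
    rw [TensorProduct.smul_tmul'] at ht
    simpa using congrArg (TensorProduct.rid A N) ht
  choose! c hc1 hc2 using hkill
  let c₀ := ∏ x ∈ k, c x
  have hc₀ : c₀ ∉ p := fun hm => by
    obtain ⟨x, hx, hxp⟩ := (Ideal.IsPrime.prod_mem_iff (hp := ‹p.IsPrime›)).1 hm
    exact hc1 x hx hxp
  refine ⟨g₁ * c₀, fun hm => (‹p.IsPrime›.mem_or_mem hm).elim hg₁ hc₀, fun t _ hgt => ?_⟩
  have hg₁t : g₁ ∉ t := fun hm => hgt (Ideal.mul_mem_right _ _ hm)
  have hc₀t : c₀ ∉ t := fun hm => hgt (Ideal.mul_mem_left _ _ hm)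
  rw [LinearMap.lTensor_inj_iff_rTensor_inj, injective_iff_map_eq_zero]
  intro z hz
  have hz' : AlgebraTensorModule.rTensor A t.ResidueField φ z = 0 := hz
  by_contra hz0
  -- scalars outside `t` act injectively on the fibre
  have hinj : ∀ a : A, a ∉ t → ∀ w : N ⊗[A] t.ResidueField, algebraMap A B a • w = 0 → w = 0 := fun a ha w hw => by
    rw [algebraMap_smul] at hw
    exact GrothLib.RG6.eq_zero_of_smul_fibre t ha hw
  let J : Ideal B := LinearMap.ker (LinearMap.toSpanSingleton B (N ⊗[A] t.ResidueField) z)
  have hJ : ∀ b, b ∈ J ↔ b • z = 0 := fun b => Iff.rfl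
  have hd : Disjoint (J : Set B) (Algebra.algebraMapSubmonoid B t.primeCompl : Set B) :=
    Set.disjoint_left.2 fun b hb hbT => by
      obtain ⟨a, ha, rfl⟩ := hbT
      exact hz0 (hinj a ha z ((hJ _).1 hb))
  obtain ⟨q, hq, hJq, hqd⟩ := Ideal.exists_le_prime_disjoint J _ hd
  have hout : ∀ a : A, a ∉ t → algebraMap A B a ∉ q := fun a ha hm =>
    Set.disjoint_left.1 hqd hm (Algebra.mem_algebraMapSubmonoid_of_mem ⟨a, ha⟩)
  haveI := hflat q (hout g₁ hg₁t)
  obtain ⟨s, hs, w, hw⟩ := GrothLib.FlatFP.exists_smul_mem_of_baseChange (S := A) t.ResidueField φ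
    (LinearMap.range φ).mkQ (LinearMap.exact_map_mkQ_range φ) (Submodule.mkQ_surjective _) q (k : Set N)
    (fun y hy => by
      obtain ⟨n, hn⟩ := hk y hy
      exact ⟨_, fun hm => hout g₁ hg₁t (hq.mem_of_pow_mem n hm), hn⟩) z hz'
  have hzero : ∀ w : (Submodule.span B (k : Set N)) ⊗[A] t.ResidueField, algebraMap A B c₀ • w = 0 := fun w => by
    induction w using TensorProduct.induction_on with
    | zero => exact smul_zero _
    | add u v hu hv => rw [smul_add, hu, hv, add_zero]
    | tmul m r =>
      have hm0 : algebraMap A B c₀ • m = 0 := by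
        obtain ⟨m, hm⟩ := m
        refine Subtype.ext ?_
        show algebraMap A B c₀ • m = 0
        induction hm using Submodule.span_induction with
        | mem x hx =>
          obtain ⟨d, hd'⟩ := Finset.dvd_prod_of_mem c (Finset.mem_coe.1 hx)
          show algebraMap A B c₀ • x = 0
          rw [show c₀ = d * c x from hd'.trans (mul_comm _ _), map_mul, mul_smul, hc2 x hx, smul_zero]
        | zero => exact smul_zero _
        | add u v _ _ hu hv => rw [smul_add, hu, hv, add_zero]
        | smul b u _ hu => rw [smul_comm, hu, smul_zero]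
      rw [TensorProduct.smul_tmul', hm0, TensorProduct.zero_tmul]
  have hsz : algebraMap A B c₀ • (s • z) = 0 := by
    rw [← hw, ← map_smul, hzero, map_zero]
  rw [← mul_smul, ← hJ] at hsz
  exact (hq.mem_or_mem (hJq hsz)).elim (hout c₀ hc₀t) hs

end Killed

end GrothLib.ProjPure13
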