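import Groth.Agent.Lib.ProjPure13.EtaleAss
import Groth.Agent.Lib.RGProj13.FreeFibre
import Groth.Agent.Lib.RG6.Impure.Basic
import Groth.Agent.S1217
import Groth.Agent.S9005

/-!
A pure module flat along a fibre is universally pure along it.
-/

set_option autoImplicit false
set_option linter.style.haveILetI false
set_option linter.unusedSectionVars false
universe u

open TensorProduct

namespace GrothLib.ProjPure13

attribute [local instance] Algebra.TensorProduct.rightAlgebra

set_option maxHeartbeats 1600000 in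
/-- Universal purity of an étale piece covering the relative associated points gives universal purity. -/
theorem univPure_of_covered {A' BA C NA N' : Type u} [CommRing A'] [CommRing BA] [CommRing C] [Algebra A' BA]
    [Algebra A' C] [Algebra BA C] [IsScalarTower A' BA C] [Algebra.Etale BA C] [Algebra.FiniteType A' BA]
    [AddCommGroup NA] [Module BA NA] [Module A' NA] [IsScalarTower A' BA NA]
    [AddCommGroup N'] [Module C N'] [Module BA N'] [IsScalarTower BA C N'] [Module A' N'] [IsScalarTower A' C N']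
    (ψ : NA →ₗ[BA] N') (hψ : IsBaseChange C ψ) (m : Ideal A') [m.IsPrime]
    (hpure : FlatCA.IsUnivPureAlong A' C N' m)
    (hc : ∀ (t' : Ideal A') [t'.IsPrime], t' ≤ m → ∀ (Q : Ideal BA) [Q.IsPrime], Q.LiesOver t' →
      FlatCA.fiberIdeal t' Q ∈ associatedPrimes (t'.Fiber BA) (FlatCA.fiberMod t' BA NA) →
      ∃ Q' : Ideal C, Q'.IsPrime ∧ Q'.comap (algebraMap BA C) = Q) :
    FlatCA.IsUnivPureAlong A' BA NA m := by
  intro A'' B'' N'' _ _ _ _ _ _ _ _ _ _ _ _ _ _ g t'' t _ _ P _ himp
  obtain ⟨hpo₂, hg, hle, hto, hPt, hassP, hmiss⟩ := himp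
  haveI := hpo₂
  haveI := hto
  haveI := hPt
  haveI : Algebra.IsPushout A' A'' BA B'' := hpo₂.symm
  haveI : Algebra.FiniteType A'' B'' := GrothLib.RG6.Impure.finiteType_baseChange hpo₂
  let s := t''.comap (algebraMap A' A'')
  haveI : t''.LiesOver s := ⟨rfl⟩
  have hsp : s ≤ m := (Ideal.comap_mono hle).trans_eq hto.over.symm
  obtain ⟨hQs, hassQ⟩ := (GrothLib.RG6.Impure.ass_both hg s t'').1 P hPt hassP
  obtain ⟨Q', hQ', hQ'Q⟩ := hc s hsp (P.comap (algebraMap BA B'')) hQs hassQ
  haveI := hQ'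
  let CC := B'' ⊗[BA] C
  haveI : IsScalarTower A' C CC := IsScalarTower.of_algebraMap_eq fun x => by
    show algebraMap A' B'' x ⊗ₜ[BA] (1 : C) = (1 : B'') ⊗ₜ[BA] algebraMap A' C x
    rw [IsScalarTower.algebraMap_apply A' BA B'', IsScalarTower.algebraMap_apply A' BA C,
      Algebra.algebraMap_eq_smul_one (A := B''), Algebra.algebraMap_eq_smul_one (A := C), TensorProduct.smul_tmul]
  obtain ⟨M, hM, hMP⟩ := exists_prime_tensor (R := BA) P Q' hQ'Q.symm
  haveI := hM
  haveI hMP' : M.LiesOver P := ⟨hMP.symm⟩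
  haveI : M.LiesOver t'' := Ideal.LiesOver.trans M P t''
  haveI : Algebra.IsPushout A' BA A'' B'' := hpo₂
  have hpo₃ : Algebra.IsPushout A' C A'' CC := (Algebra.IsPushout.comp_iff A' BA A'' B'').2 inferInstance
  let NC := CC ⊗[C] N'
  let φ' : N' →ₗ[C] NC := TensorProduct.mk C CC N' 1
  have hφ' : IsBaseChange CC φ' := TensorProduct.isBaseChange C N' CC
  have hcomp : IsBaseChange CC ((φ'.restrictScalars BA) ∘ₗ ψ) := hψ.comp hφ'
  let g' : N'' →ₗ[B''] NC := hg.lift ((φ'.restrictScalars BA) ∘ₗ ψ)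
  have hg' : IsBaseChange CC g' := IsBaseChange.of_comp hg (by rw [IsBaseChange.lift_comp]; exact hcomp)
  have hassM : FlatCA.fiberIdeal t'' M ∈ associatedPrimes (t''.Fiber CC) (FlatCA.fiberMod t'' CC NC) :=
    ass_etale (A := A'') (B := B'') (B' := CC) g' hg' t'' P hassP M
  refine hpure A'' CC NC φ' t'' t M ⟨hpo₃, hφ', hle, hto, inferInstance, hassM, fun P' hP' hle' hover => ?_⟩
  refine hmiss (P'.comap (algebraMap B'' CC)) ?_ ⟨?_⟩
  · exact hMP.symm.le.trans (Ideal.comap_mono hle')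
  · rw [Ideal.under, Ideal.comap_comap, ← IsScalarTower.algebraMap_eq A'' B'' CC]
    exact hover.over

set_option maxHeartbeats 1600000 in
/-- A pure module flat along a fibre is universally pure along it. -/
theorem univPure_of_pure {A B : Type u} [CommRing A] [CommRing B] [Algebra A B] [Algebra.FiniteType A B]
    (N : Type u) [AddCommGroup N] [Module B N] [Module A N] [IsScalarTower A B N] [Module.Finite B N] (p : Ideal A)
    [p.IsPrime] (hflat : ∀ (q : Ideal B) [q.IsPrime], q.LiesOver p → FlatCA.FlatAt A q N)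
    (hpure : FlatCA.IsPureAlong A B N p) : FlatCA.IsUnivPureAlong A B N p := by
  obtain ⟨A', _, _, p', _, hA', H⟩ := GrothLib.RGProj13.exists_free_fibre (R := A) (S := B) (N := N) p hflat
  haveI : Algebra.Etale A A' := hA'.1
  obtain ⟨ho, -⟩ := hA'.2
  haveI := ho
  let A₁ := Localization.AtPrime p'
  let m := IsLocalRing.maximalIdeal A₁
  haveI hmp' : m.LiesOver p' := ⟨(IsLocalization.AtPrime.under_maximalIdeal A₁ p').symm⟩
  haveI hmp : m.LiesOver p := Ideal.LiesOver.trans m p' p
  obtain ⟨B₀, N₀, _, _, _, _, _, _, _, _, _, _, _, _, f₀, hpo₀, hf₀⟩ := GrothLib.RG6.Impure.exists_data A B N A'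
  obtain ⟨SA, NA, _, _, _, _, _, _, _, _, _, _, _, _, fA, hpoA, hfA⟩ := GrothLib.RG6.Impure.exists_data A B N A₁
  obtain ⟨_, _, _, _, _, _, _, _, φ, hφ, -⟩ := GrothLib.RG6.Impure.exists_map (A₁ := A') (A₂ := A₁) hpo₀ hf₀ hpoA hfA
  obtain ⟨C, _, _, _, _, _, _, het, hsurj, hfp, hfree⟩ := H SA NA fA hfA
  haveI := het
  haveI : Algebra.FiniteType A₁ SA := GrothLib.RG6.Impure.finiteType_baseChange hpoA
  haveI : Algebra.FiniteType A₁ C := Algebra.FiniteType.trans (S := SA) inferInstance inferInstance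
  let NC := C ⊗[SA] NA
  haveI : Module.Projective A₁ NC := by
    haveI := hfree
    exact Module.Projective.of_equiv
      ({ RestrictScalars.addEquiv A₁ C NC with
         map_smul' := fun a z => by
          show algebraMap A₁ C a • RestrictScalars.addEquiv A₁ C _ z = a • RestrictScalars.addEquiv A₁ C _ z
          rw [algebraMap_smul] } : RestrictScalars A₁ C NC ≃ₗ[A₁] NC)
  haveI : Module.Finite C NC := by
    haveI := hfp
    infer_instance
  have hupC : FlatCA.IsUnivPureAlong A₁ C NC m := Groth.Agent.S9005.result (A := A₁) (B := C) NC m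
  haveI : Module.Flat A (Localization.AtPrime m) := by
    haveI : Module.Flat A A₁ := Module.Flat.trans A A' A₁
    exact Module.Flat.trans A A₁ _
  refine (Groth.Agent.S1217.result (A := A) (B := B) N p A₁ SA NA fA hfA m).2 ?_
  refine univPure_of_covered (TensorProduct.mk SA C NA 1) (TensorProduct.isBaseChange SA NA C) m hupC ?_
  intro t' _ _ Q _ hQt hass
  haveI := hQt
  haveI : Algebra.FiniteType A' B₀ := GrothLib.RG6.Impure.finiteType_baseChange hpo₀
  let s := t'.comap (algebraMap A' A₁)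
  haveI : t'.LiesOver s := ⟨rfl⟩
  have hsp : s ≤ p' :=
    (Ideal.comap_mono (IsLocalRing.le_maximalIdeal ‹t'.IsPrime›.ne_top)).trans_eq hmp'.over.symm
  obtain ⟨hQs, hassQ⟩ := (GrothLib.RG6.Impure.ass_both hφ s t').1 Q hQt hass
  obtain ⟨P', hP', hQP, hPp⟩ : ∃ P' : Ideal B₀, P'.IsPrime ∧ Q.comap (algebraMap B₀ SA) ≤ P' ∧ P'.LiesOver p' := by
    by_contra! hne
    exact hpure A' B₀ N₀ f₀ s p' (Q.comap (algebraMap B₀ SA)) hA'
      ⟨hpo₀, hf₀, hsp, ho, hQs, hassQ, fun P' hP' hle hover => hne P' hP' hle hover⟩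
  haveI := hP'
  haveI := hPp
  -- the specialization in the localization
  haveI : IsLocalization (Algebra.algebraMapSubmonoid B₀ p'.primeCompl) SA :=
    (Algebra.isLocalization_iff_isPushout p'.primeCompl A₁).2 (Algebra.IsPushout.symm inferInstance)
  have hd : Disjoint (Algebra.algebraMapSubmonoid B₀ p'.primeCompl : Set B₀) P' := Set.disjoint_left.2 fun x hx hxP => by
    obtain ⟨a, ha, rfl⟩ := hx
    exact ha (hPp.over.symm.le hxP)
  let P₁ := P'.map (algebraMap B₀ SA)
  haveI : P₁.IsPrime := IsLocalization.isPrime_of_isPrime_disjoint _ SA P' inferInstance hd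
  have hP₁c : P₁.comap (algebraMap B₀ SA) = P' := IsLocalization.under_map_of_isPrime_disjoint _ SA ‹_› hd
  have hQP₁ : Q ≤ P₁ := by
    rw [← IsLocalization.map_under (Algebra.algebraMapSubmonoid B₀ p'.primeCompl) SA Q]
    exact Ideal.map_mono hQP
  have hP₁m : P₁.LiesOver m := ⟨by
    show m = P₁.comap (algebraMap A₁ SA)
    refine (IsLocalRing.maximalIdeal.isMaximal A₁).eq_of_le Ideal.IsPrime.ne_top' (fun a ha => ?_)
    rw [← Localization.AtPrime.map_eq_maximalIdeal] at ha
    refine Ideal.map_le_iff_le_comap.2 (fun r hr => ?_) ha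
    show algebraMap A₁ SA (algebraMap A' A₁ r) ∈ P₁
    rw [← IsScalarTower.algebraMap_apply A' A₁ SA, IsScalarTower.algebraMap_apply A' B₀ SA]
    exact hP₁c.symm.le (hPp.over.le hr)⟩
  let q := P₁.comap (algebraMap B SA)
  have hqp : q.LiesOver p := ⟨by
    show p = (P₁.comap (algebraMap B SA)).comap (algebraMap A B)
    rw [Ideal.comap_comap, ← IsScalarTower.algebraMap_eq A B SA, IsScalarTower.algebraMap_eq A A₁ SA, ← Ideal.comap_comap]
    exact hmp.over.trans (congrArg (Ideal.comap (algebraMap A A₁)) hP₁m.over)⟩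
  obtain ⟨x', hx', hxq, hxm⟩ := hsurj q hqp
  haveI := hx'
  have heq : P₁ = x'.comap (algebraMap SA C) :=
    GrothLib.RGProj13.eq_of_residue_bijective hmp (GrothLib.RGProj13.exists_frac_residue hA') q P₁
      (x'.comap (algebraMap SA C)) ⟨rfl⟩ ⟨by
        show q = (x'.comap (algebraMap SA C)).comap (algebraMap B SA)
        rw [Ideal.comap_comap, ← IsScalarTower.algebraMap_eq B SA C]
        exact hxq.symm⟩ hP₁m ⟨by
        show m = (x'.comap (algebraMap SA C)).comap (algebraMap A₁ SA)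
        rw [Ideal.comap_comap, ← IsScalarTower.algebraMap_eq A₁ SA C]
        exact hxm.over⟩
  haveI : x'.LiesOver P₁ := ⟨heq⟩
  obtain ⟨Q', -, hQ', hQ'Q⟩ := Ideal.exists_ideal_le_liesOver_of_le (R := SA) (S := C) (p := Q) (q := P₁) x' hQP₁
  exact ⟨Q', hQ', hQ'Q.over.symm⟩

end GrothLib.ProjPure13
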