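import Groth.Prelude.Def_FlatFun
import Groth.Agent.Lib.ProjPure13.Locus
import Mathlib

/-!
Weil restriction of a closed subscheme along a projective algebra.
-/

set_option autoImplicit false
set_option linter.style.haveILetI false
universe u

open CategoryTheory Limits AlgebraicGeometry Opposite TensorProduct

namespace GrothLib.ProjPure13

/-- The content ideal of an ideal of a projective algebra. -/
theorem exists_content {A B : Type u} [CommRing A] [CommRing B] [Algebra A B] [Module.Projective A B] (J : Ideal B) :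
    ∃ I : Ideal A, (∀ (R : Type u) [CommRing R] [Algebra A R],
        I ≤ RingHom.ker (algebraMap A R) ↔ ∀ k ∈ J, k ⊗ₜ[A] (1 : R) = 0) ∧ (J.FG → I.FG) := by
  classical
  obtain ⟨s, hs⟩ := Module.projective_def'.1 ‹Module.Projective A B›
  have key : ∀ (S : Set B), Ideal.span S = J → ∀ (R : Type u) [CommRing R] [Algebra A R],
      Ideal.span {a : A | ∃ k ∈ S, ∃ i, s k i = a} ≤ RingHom.ker (algebraMap A R) ↔ ∀ k ∈ J, k ⊗ₜ[A] (1 : R) = 0 := by
    intro S hS R _ _
    have hker : Submodule.span B S = LinearMap.ker (Submodule.mkQ J) := by rw [Submodule.ker_mkQ]; exact hS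
    rw [← Ideal.map_eq_bot_iff_le_ker, ← bijective_baseChange_iff s _ hs (Submodule.mkQ J) (Submodule.mkQ_surjective J) S hker R]
    have hex : Function.Exact ((J.subtype.restrictScalars A).lTensor R) (((Submodule.mkQ J).restrictScalars A).lTensor R) :=
      lTensor_exact R (show Function.Exact (J.subtype.restrictScalars A) ((Submodule.mkQ J).restrictScalars A) from
        LinearMap.exact_subtype_mkQ J) (Submodule.mkQ_surjective J)
    constructor
    · intro h k hk
      apply (TensorProduct.comm A B R).injective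
      rw [TensorProduct.comm_tmul, map_zero]
      exact h.1 ((hex _).2 ⟨(1 : R) ⊗ₜ ⟨k, hk⟩, rfl⟩ |>.trans (map_zero _).symm)
    · intro h
      refine ⟨(injective_iff_map_eq_zero _).2 fun z hz => ?_, LinearMap.lTensor_surjective R (Submodule.mkQ_surjective J)⟩
      obtain ⟨w, rfl⟩ := (hex z).1 hz
      clear hz
      induction w using TensorProduct.induction_on with
      | zero => exact map_zero _
      | add x y hx hy => rw [map_add, hx, hy, add_zero]
      | tmul r k =>
        have hk := congrArg (fun z => r • TensorProduct.comm A B R z) (h k.1 k.2)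
        simpa [TensorProduct.smul_tmul'] using hk
  by_cases hfg : J.FG
  · obtain ⟨S, hS⟩ := hfg
    refine ⟨_, key (S : Set B) hS, fun _ => Submodule.fg_span ?_⟩
    refine (Finset.finite_toSet (insert (0 : A) (S.biUnion fun k => (s k).support.image (s k)))).subset ?_
    rintro _ ⟨k, hk, i, rfl⟩
    by_cases h0 : s k i = 0
    · simp [h0]
    · exact Finset.mem_insert_of_mem (Finset.mem_biUnion.2 ⟨k, hk, Finset.mem_image.2 ⟨i, Finsupp.mem_support_iff.2 h0, rfl⟩⟩)
  · exact ⟨_, key (J : Set B) (Ideal.span_eq J), fun h => absurd h hfg⟩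

/-- The Weil restriction of a closed subscheme is a closed subscheme. -/
theorem exists_weilRestriction {A B : Type u} [CommRing A] [CommRing B] [Algebra A B] [Algebra.FinitePresentation A B]
    [Module.Projective A B] {Y : Scheme.{u}} (i : Y ⟶ Spec (CommRingCat.of B)) [IsClosedImmersion i] :
    ∃ Z : Over (Spec (CommRingCat.of A)), IsClosedImmersion Z.hom ∧
      Nonempty ((FlatFun.genPSp (Spec (CommRingCat.of A)) (fun T =>
        IsIso (pullback.snd i (pullback.fst (Spec.map (CommRingCat.ofHom (algebraMap A B))) T.hom)))).RepresentableBy Z) ∧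
      (LocallyOfFinitePresentation (i ≫ Spec.map (CommRingCat.ofHom (algebraMap A B))) →
        LocallyOfFinitePresentation Z.hom) := by
  obtain ⟨J, e, hi⟩ := IsClosedImmersion.Spec_iff.1 ‹IsClosedImmersion i›
  obtain ⟨I, hI, hIfg⟩ := exists_content (A := A) J
  let S := Spec (CommRingCat.of A)
  let f := Spec.map (CommRingCat.ofHom (algebraMap A B))
  let zh : Spec (CommRingCat.of (A ⧸ I)) ⟶ S := Spec.map (CommRingCat.ofHom (Ideal.Quotient.mk I))
  haveI : IsClosedImmersion zh := IsClosedImmersion.spec_of_surjective _ Ideal.Quotient.mk_surjective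
  let P : Over S → Prop := fun T => IsIso (pullback.snd i (pullback.fst f T.hom))
  have hP : ∀ T : Over S, P T ↔ ∃ d : pullback f T.hom ⟶ Y, d ≫ i = pullback.fst f T.hom := fun T => by
    constructor
    · intro h
      haveI : IsIso (pullback.snd i (pullback.fst f T.hom)) := h
      exact ⟨inv (pullback.snd i (pullback.fst f T.hom)) ≫ pullback.fst _ _, by
        rw [Category.assoc, pullback.condition, IsIso.inv_hom_id_assoc]⟩
    · rintro ⟨d, hd⟩
      haveI : IsSplitEpi (pullback.snd i (pullback.fst f T.hom)) :=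
        ⟨⟨⟨pullback.lift d (𝟙 _) (by rw [hd, Category.id_comp]), pullback.lift_snd _ _ _⟩⟩⟩
      exact isIso_of_mono_of_isSplitEpi _
  let Z : Over S := Over.mk zh
  -- the universal property on affine test schemes
  have hfac : ∀ (R : Type u) [CommRing R] [Algebra A R] (d : Spec (CommRingCat.of (B ⊗[A] R)) ⟶ Y),
      d ≫ i = Spec.map (CommRingCat.ofHom Algebra.TensorProduct.includeLeftRingHom) → I ≤ RingHom.ker (algebraMap A R) := by
    intro R _ _ d hd
    rw [hI R]
    intro k hk
    obtain ⟨ψ, hψ⟩ := Spec.map_surjective (d ≫ e.hom)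
    rw [hi, ← Category.assoc, ← hψ, ← Spec.map_comp] at hd
    have h := congrArg (fun φ : CommRingCat.of B ⟶ CommRingCat.of (B ⊗[A] R) => φ.hom k) (Spec.map_injective hd)
    simp only [CommRingCat.hom_comp, CommRingCat.hom_ofHom, RingHom.comp_apply] at h
    rw [Ideal.Quotient.eq_zero_iff_mem.2 hk, map_zero] at h
    exact h.symm
  have hPZ : P Z := by
    refine (hP Z).2 ?_
    have hle : J ≤ RingHom.ker (Algebra.TensorProduct.includeLeftRingHom : B →+* B ⊗[A] (A ⧸ I)) := fun k hk =>
      (hI (A ⧸ I)).1 (by rw [Ideal.Quotient.algebraMap_eq, Ideal.mk_ker]) k hk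
    let α : CommRingCat.of (B ⧸ J) ⟶ CommRingCat.of (B ⊗[A] (A ⧸ I)) := CommRingCat.ofHom (Ideal.Quotient.lift J _ hle)
    refine ⟨(pullbackSpecIso A B (A ⧸ I)).hom ≫ Spec.map α ≫ e.inv, ?_⟩
    rw [hi, Category.assoc, Category.assoc, e.inv_hom_id_assoc, ← Spec.map_comp]
    have : CommRingCat.ofHom (Ideal.Quotient.mk J) ≫ α =
        CommRingCat.ofHom Algebra.TensorProduct.includeLeftRingHom := CommRingCat.hom_ext (RingHom.ext fun _ => rfl)
    rw [this]
    exact pullbackSpecIso_hom_fst A B (A ⧸ I)
  have hlift : ∀ T : Over S, P T → Nonempty (T ⟶ Z) := by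
    intro T hT
    obtain ⟨d, hd⟩ := (hP T).1 hT
    have hloc : ∀ x, ∃ k : T.left.affineCover.X x ⟶ Spec (CommRingCat.of (A ⧸ I)),
        k ≫ zh = T.left.affineCover.f x ≫ T.hom := by
      intro x
      let R₀ := T.left.affineCover.X x
      haveI : IsAffine R₀ := inferInstanceAs (IsAffine (Spec _))
      let R : Type u := Γ(R₀, ⊤)
      let j : Spec (CommRingCat.of R) ⟶ T.left := R₀.isoSpec.inv ≫ T.left.affineCover.f x
      obtain ⟨φ, hφ⟩ := Spec.map_surjective (j ≫ T.hom)
      letI : Algebra A R := φ.hom.toAlgebra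
      have hjT : Spec.map (CommRingCat.ofHom (algebraMap A R)) = j ≫ T.hom := hφ
      let c : Spec (CommRingCat.of (B ⊗[A] R)) ⟶ pullback f T.hom :=
        (pullbackSpecIso A B R).inv ≫ pullback.map f (Spec.map (CommRingCat.ofHom (algebraMap A R))) f T.hom
          (𝟙 _) j (𝟙 _) (by simp) (by rw [Category.comp_id, hjT])
      have hc : c ≫ d ≫ i = Spec.map (CommRingCat.ofHom Algebra.TensorProduct.includeLeftRingHom) := by
        rw [hd]
        simp only [c, Category.assoc, pullback.lift_fst, Category.comp_id]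
        exact pullbackSpecIso_inv_fst A B R
      have hIR := hfac R (c ≫ d) (by rw [Category.assoc]; exact hc)
      let β : CommRingCat.of (A ⧸ I) ⟶ CommRingCat.of R := CommRingCat.ofHom (Ideal.Quotient.lift I _ hIR)
      refine ⟨R₀.isoSpec.hom ≫ Spec.map β, ?_⟩
      show (R₀.isoSpec.hom ≫ Spec.map β) ≫ Spec.map (CommRingCat.ofHom (Ideal.Quotient.mk I)) = _
      rw [Category.assoc, ← Spec.map_comp, show CommRingCat.ofHom (Ideal.Quotient.mk I) ≫ β =
        CommRingCat.ofHom (algebraMap A R) from CommRingCat.hom_ext (RingHom.ext fun _ => rfl), hjT]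
      simp [j, R₀]
    choose k hk using hloc
    let g := T.left.affineCover.glueMorphisms k fun x y => by
      rw [← cancel_mono zh, Category.assoc, Category.assoc, hk, hk, pullback.condition_assoc]
    refine ⟨Over.homMk g (T.left.affineCover.hom_ext _ _ fun x => ?_)⟩
    show T.left.affineCover.f x ≫ g ≫ zh = T.left.affineCover.f x ≫ T.hom
    rw [Scheme.Cover.ι_glueMorphisms_assoc, hk]
  haveI : ∀ T : Over S, Subsingleton (T ⟶ Z) := fun T => ⟨fun a b => by
    ext1
    rw [← cancel_mono zh]
    exact (Over.w a).trans (Over.w b).symm⟩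
  refine ⟨Z, ‹IsClosedImmersion zh›, ⟨{ homEquiv := fun {T} => ?_, homEquiv_comp := fun {T T'} _ _ => Subsingleton.elim _ _ }⟩, fun hY => ?_⟩
  · exact
      { toFun := fun g => ULift.up (PLift.up ⟨Z, g, hPZ⟩)
        invFun := fun x => Classical.choice (x.down.down.elim fun T₀ h => h.elim fun k hk => (hlift T₀ hk).map (k ≫ ·))
        left_inv := fun _ => Subsingleton.elim _ _
        right_inv := fun _ => Subsingleton.elim _ _ }
  · let mkJ : CommRingCat.of B ⟶ CommRingCat.of (B ⧸ J) := CommRingCat.ofHom (Ideal.Quotient.mk J)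
    have h1 : LocallyOfFinitePresentation (Spec.map (CommRingCat.ofHom (algebraMap A B) ≫ mkJ)) := by
      rw [Spec.map_comp]
      have hY' := hY
      rw [hi, Category.assoc] at hY'
      have hcomp := locallyOfFinitePresentation_comp e.inv
        (e.hom ≫ Spec.map mkJ ≫ Spec.map (CommRingCat.ofHom (algebraMap A B)))
      rwa [e.inv_hom_id_assoc] at hcomp
    have h2 : ((Ideal.Quotient.mk J).comp (algebraMap A B)).FinitePresentation :=
      (HasRingHomProperty.Spec_iff (P := @LocallyOfFinitePresentation)).1 h1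
    have h3 : (Ideal.Quotient.mk J).FinitePresentation :=
      RingHom.FinitePresentation.of_comp_finiteType _ h2
        (RingHom.finiteType_algebraMap.2 (inferInstance : Algebra.FiniteType A B))
    have hJ : J.FG := by
      have hker := Algebra.FinitePresentation.ker_fG_of_surjective (R := B) (A := B) (B := B ⧸ J) (Ideal.Quotient.mkₐ B J)
      haveI : Algebra.FinitePresentation B (B ⧸ J) := h3
      have hker' := hker Ideal.Quotient.mk_surjective
      exact (show RingHom.ker (Ideal.Quotient.mkₐ B J).toRingHom = J from Ideal.mk_ker) ▸ hker'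
    show LocallyOfFinitePresentation zh
    refine (HasRingHomProperty.Spec_iff (P := @LocallyOfFinitePresentation)).2 ?_
    exact Algebra.FinitePresentation.quotient (R := A) (A := A) (hIfg hJ)

end GrothLib.ProjPure13
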